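import Groth.Agent.UniPrim.Trig
import Groth.Agent.MultTypeLib.Field
import Groth.Agent.MultTypeLib.Build
import Groth.Agent.GrpSchLib.SubHopf
import Groth.Agent.GalDescX.Basic
import Groth.Agent.CoradFil.BaseChange
import Groth.Agent.S5375
import Groth.Agent.S7951
import Groth.Agent.S16065

/-!
# Groups trigonalizable over a separable extension
-/

universe u

set_option autoImplicit false

open TensorProduct
open Groth.Agent

noncomputable section

namespace Groth.Agent.UniPrim

open CoradFil ComodLib MultTypeLib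

section Semi

variable {S T : Type u} [CommRing S] [CommRing T] [Algebra S T] {A B : Type u} [CommRing A] [Bialgebra S A]
  [CommRing B] [Bialgebra T B] [Algebra S B] [IsScalarTower S T B]

theorem mem_wedge_semi (E : SemiBialgHom S T A B) {S₀ : Submodule S A} {S₁ : Submodule T B}
    (h : ∀ s ∈ S₀, E.toAlgHom s ∈ S₁) :
    ∀ (r : ℕ) (a : A), a ∈ wedge S₀ r → E.toAlgHom a ∈ wedge S₁ r
  | 0, a, ha => h a ha
  | r + 1, a, ha => by
    simp only [wedge, Submodule.mem_comap] at ha ⊢
    obtain ⟨x, ⟨x', rfl⟩, y, ⟨y', rfl⟩, hxy⟩ := Submodule.mem_sup.1 ha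
    rw [E.comul_comp, ← hxy, map_add]
    refine Submodule.add_mem_sup ?_ ?_
    · clear hxy
      induction x' using TensorProduct.induction_on with
      | zero => simp
      | tmul p q => exact ⟨⟨_, mem_wedge_semi E h r p p.2⟩ ⊗ₜ[T] E.toAlgHom q, by simp⟩
      | add p q hp hq => rw [map_add, map_add]; exact Submodule.add_mem _ hp hq
    · clear hxy
      induction y' using TensorProduct.induction_on with
      | zero => simp
      | tmul p q => exact ⟨E.toAlgHom p ⊗ₜ[T] ⟨_, h q q.2⟩, by simp⟩
      | add p q hp hq => rw [map_add, map_add]; exact Submodule.add_mem _ hp hq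

end Semi

variable {k : Type u} [Field k] {A : Type u} [CommRing A] [HopfAlgebra k A]

theorem mA_smul {S T : Type u} [CommRing S] [CommRing T] [Algebra k S] [Algebra k T] (f : S →ₐ[k] T) (c : S)
    (x : S ⊗[k] A) : mA A f (c • x) = f c • mA A f x := by
  induction x using TensorProduct.induction_on with
  | zero => simp
  | tmul p q => simp [smul_tmul']
  | add p q hp hq => simp only [smul_add, map_add, hp, hq]

theorem exh_gl_mA {S T : Type u} [Field S] [Field T] [Algebra k S] [Algebra k T] (f : S →ₐ[k] T)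
    (h : Exh (glSpan S (S ⊗[k] A))) : Exh (glSpan T (T ⊗[k] A)) := by
  let _ : Algebra S T := f.toRingHom.toAlgebra
  have : IsScalarTower k S T := IsScalarTower.of_algebraMap_eq fun r => (f.commutes r).symm
  let E := (SemiBialgHom.baseChange k T A).extendSemi (S := S)
  have hE : ∀ z, E.toAlgHom z = mA A f z := by
    intro z
    induction z using TensorProduct.induction_on with
    | zero => simp
    | tmul s a =>
      simp [E, SemiBialgHom.baseChange, Algebra.TensorProduct.algebraMap_apply, RingHom.algebraMap_toAlgebra]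
    | add x y hx hy => simp only [map_add, hx, hy]
  refine exh_of_forall_one_tmul T wedge_gl_mono fun a => ?_
  obtain ⟨r, hr⟩ := h ((1 : S) ⊗ₜ[k] a)
  refine ⟨r, ?_⟩
  have h1 : E.toAlgHom ((1 : S) ⊗ₜ[k] a) = (1 : T) ⊗ₜ[k] a := by rw [hE]; simp
  rw [← h1]
  refine mem_wedge_semi E (fun s hs => ?_) r _ hr
  induction hs using Submodule.span_induction with
  | mem g hg => rw [hE]; exact Submodule.subset_span (isGroupLike_mA f hg)
  | zero => rw [map_zero]; exact Submodule.zero_mem _
  | add x y _ _ hx hy => rw [map_add]; exact Submodule.add_mem _ hx hy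
  | smul c x _ hx =>
    rw [hE] at hx ⊢
    rw [mA_smul]
    exact Submodule.smul_mem _ _ hx

/-- Galois-stable subspaces of `K ⊗ A` are defined over the base. -/
theorem mem_span_fixed {K : Type u} [Field K] [Algebra k K] [FiniteDimensional k K] [IsGalois k K]
    (W : Submodule K (K ⊗[k] A)) (hW : ∀ σ : K ≃ₐ[k] K, ∀ w ∈ W, mA A (σ : K →ₐ[k] K) w ∈ W)
    {w : K ⊗[k] A} (hw : w ∈ W) :
    w ∈ Submodule.span K ((fun a : A => (1 : K) ⊗ₜ[k] a) '' {a | (1 : K) ⊗ₜ[k] a ∈ W}) := by
  classical
  letI : DistribMulAction (K ≃ₐ[k] K) W :=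
    { smul := fun σ x => ⟨mA A (σ : K →ₐ[k] K) x.1, hW σ x.1 x.2⟩
      one_smul := fun x => Subtype.ext (by
        show mA A _ x.1 = x.1
        rw [show ((1 : K ≃ₐ[k] K) : K →ₐ[k] K) = AlgHom.id k K from rfl, mA, Algebra.TensorProduct.map_id]
        rfl)
      mul_smul := fun σ τ x => Subtype.ext (mA_comp (A := A) (σ : K →ₐ[k] K) (τ : K →ₐ[k] K) x.1).symm
      smul_zero := fun σ => Subtype.ext (map_zero _)
      smul_add := fun σ x y => Subtype.ext (map_add _ _ _) }
  have hsemi : ∀ (σ : K ≃ₐ[k] K) (c : K) (v : W), σ • (c • v) = σ c • σ • v := by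
    intro σ c v
    refine Subtype.ext ?_
    show mA A (σ : K →ₐ[k] K) (c • v.1) = σ c • mA A (σ : K →ₐ[k] K) v.1
    generalize v.1 = x
    induction x using TensorProduct.induction_on with
    | zero => simp
    | tmul p q => simp [smul_tmul']
    | add p q hp hq => simp only [smul_add, map_add, hp, hq]
  have hspan := GalDescX.span_fixedPoints (k := k) (K := K) (V := W) hsemi
  have h1 : (⟨w, hw⟩ : W) ∈ Submodule.span K (MulAction.fixedPoints (K ≃ₐ[k] K) W) := by rw [hspan]; trivial
  have h2 := Submodule.mem_map_of_mem (f := W.subtype) h1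
  rw [Submodule.map_span] at h2
  refine Submodule.span_mono ?_ h2
  rintro _ ⟨⟨x, hx⟩, hfix, rfl⟩
  let b := Module.Free.chooseBasis k A
  let bK := Algebra.TensorProduct.basis K b
  have hcoef : ∀ (σ : K ≃ₐ[k] K) (y : K ⊗[k] A) (i), bK.repr (mA A (σ : K →ₐ[k] K) y) i = σ (bK.repr y i) := by
    intro σ y i
    induction y using TensorProduct.induction_on with
    | zero => simp
    | tmul p q => simp [bK]
    | add p q hp hq => simp only [map_add, Finsupp.add_apply, hp, hq]
  have hmem : ∀ i, bK.repr x i ∈ Set.range (algebraMap k K) := fun i =>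
    (IsGalois.mem_range_algebraMap_iff_fixed _).2 fun σ => by
      rw [← hcoef σ x i]
      exact congrArg (fun y => bK.repr y i) (congrArg Subtype.val (hfix σ))
  choose c hc using hmem
  let a : A := ∑ i ∈ (bK.repr x).support, c i • b i
  have hax : (1 : K) ⊗ₜ[k] a = x := by
    conv_rhs => rw [← bK.linearCombination_repr x]
    simp only [Finsupp.linearCombination_apply, Finsupp.sum, a, TensorProduct.tmul_sum, TensorProduct.tmul_smul]
    refine Finset.sum_congr rfl fun i _ => ?_
    rw [← hc i, algebraMap_smul]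
    simp [bK]
  exact ⟨a, by show (1 : K) ⊗ₜ[k] a ∈ W; rw [hax]; exact hx, hax⟩

theorem exists_hopfSubalgebra_superset (s : Finset A) :
    ∃ B : Subalgebra k A, ↑s ⊆ (B : Set A) ∧ B.FG ∧ SGA3.IsHopfSubalgebra k A B := by
  classical
  induction s using Finset.induction with
  | empty =>
    obtain ⟨B, -, h1, h2⟩ := S5375.result k A 0
    exact ⟨B, by simp, h1, h2⟩
  | insert x s _ ih =>
    obtain ⟨B, hs, hfg, hB⟩ := ih
    obtain ⟨B', hx, hfg', hB'⟩ := S5375.result k A x
    refine ⟨B ⊔ B', ?_, hfg.sup hfg', ?_, ?_⟩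
    · rw [Finset.coe_insert]
      exact Set.insert_subset ((le_sup_right : B' ≤ B ⊔ B') hx) (hs.trans (le_sup_left : B ≤ B ⊔ B'))
    · have hle : ∀ (C : Subalgebra k A), C ≤ B ⊔ B' → SGA3.IsHopfSubalgebra k A C →
          C ≤ (Algebra.TensorProduct.map (B ⊔ B').val (B ⊔ B').val).range.comap (Bialgebra.comulAlgHom k A) := by
        intro C hle hC c hc
        obtain ⟨z, hz⟩ := hC.1 c hc
        refine ⟨Algebra.TensorProduct.map (Subalgebra.inclusion hle) (Subalgebra.inclusion hle) z, ?_⟩
        show Algebra.TensorProduct.map (B ⊔ B').val (B ⊔ B').val _ = Coalgebra.comul (R := k) c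
        refine Eq.trans ?_ hz
        clear hz
        induction z using TensorProduct.induction_on with
        | zero => simp
        | tmul p q => simp
        | add p q hp hq => simp only [map_add, hp, hq]
      exact fun b hb => (sup_le (hle B le_sup_left hB) (hle B' le_sup_right hB')) hb
    · exact fun b hb => (sup_le (fun c hc => (le_sup_left : B ≤ B ⊔ B') (hB.2 c hc))
        (fun c hc => (le_sup_right : B' ≤ B ⊔ B') (hB'.2 c hc)) :
          B ⊔ B' ≤ (B ⊔ B').comap (HopfAlgebra.antipodeAlgHom k A)) hb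

variable [Algebra.FiniteType k A]

/-- A Hopf algebra mapping injectively to a finitely generated one is finitely generated. -/
theorem finiteType_of_injective {B : Type u} [CommRing B] [HopfAlgebra k B] (ψ : B →ₐc[k] A)
    (hψ : Function.Injective ψ) : Algebra.FiniteType k B := by
  classical
  haveI : IsNoetherianRing A := Algebra.FiniteType.isNoetherianRing k A
  let J := Ideal.map (ψ : B →+* A) (RingHom.ker (Bialgebra.counitAlgHom k B))
  obtain ⟨F, hFE, hFJ⟩ := (Submodule.fg_span_iff_fg_span_finset_subset (R := A)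
    ((ψ : B →+* A) '' (RingHom.ker (Bialgebra.counitAlgHom k B) : Set B))).1 (IsNoetherian.noetherian _)
  have hF' : ∀ e ∈ F, ∃ b : B, b ∈ RingHom.ker (Bialgebra.counitAlgHom k B) ∧ ψ b = e := fun e he => hFE he
  choose g hg hge using hF'
  let S₀ : Finset B := F.attach.image fun e => g e.1 e.2
  obtain ⟨B₀, hsub, hfg, hB₀⟩ := exists_hopfSubalgebra_superset (k := k) (A := B) S₀
  letI : HopfAlgebra k B₀ := GrpSchLib.SubHopf.hopf B₀ hB₀
  haveI : Algebra.FiniteType k B₀ := ⟨(Subalgebra.fg_top B₀).2 hfg⟩
  let j : B₀ →ₐc[k] B := BialgHom.ofAlgHom B₀.val rfl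
    (AlgHom.ext fun b => GrpSchLib.SubHopf.map_comulRes B₀ hB₀ b)
  have hJ : Ideal.map ((ψ.comp j : B₀ →ₐc[k] A) : B₀ →+* A) (RingHom.ker (Bialgebra.counitAlgHom k B₀)) = J := by
    refine le_antisymm ?_ ?_
    · rw [Ideal.map_le_iff_le_comap]
      intro b hb
      exact Ideal.mem_map_of_mem (ψ : B →+* A)
        (show b.1 ∈ RingHom.ker (Bialgebra.counitAlgHom k B) from hb)
    · show Ideal.span _ ≤ _
      rw [show Ideal.span ((ψ : B →+* A) '' (RingHom.ker (Bialgebra.counitAlgHom k B) : Set B)) =
        Ideal.span (F : Set A) from hFJ, Ideal.span_le]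
      intro e he
      rw [← hge e he]
      have hmem : g e he ∈ B₀ := hsub (Finset.mem_image.2 ⟨⟨e, he⟩, Finset.mem_attach _ _, rfl⟩)
      exact Ideal.mem_map_of_mem ((ψ.comp j : B₀ →ₐc[k] A) : B₀ →+* A)
        (show (⟨g e he, hmem⟩ : B₀) ∈ RingHom.ker (Bialgebra.counitAlgHom k B₀) from hg e he)
  suffices B₀ = ⊤ by
    rw [this] at hfg
    exact ⟨hfg⟩
  refine eq_top_iff.2 fun b _ => ?_
  let p : B →ₗ[k] B := LinearMap.id - (Algebra.linearMap k B) ∘ₗ Coalgebra.counit (R := k)
  have hp : ∀ x, p x ∈ RingHom.ker (Bialgebra.counitAlgHom k B) := fun x => by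
    simp [p, RingHom.mem_ker]
  have hpΔ : p.lTensor B (Coalgebra.comul (R := k) b) = Coalgebra.comul (R := k) b - b ⊗ₜ[k] 1 := by
    rw [LinearMap.lTensor_sub, LinearMap.sub_apply, LinearMap.lTensor_id, LinearMap.id_apply,
      LinearMap.lTensor_comp, LinearMap.comp_apply, Coalgebra.lTensor_counit_comul]
    simp
  obtain ⟨c, hc⟩ := mem_range_of_comul_sub_mem (ψ.comp j) (hψ.comp Subtype.val_injective) (ψ b) (by
    rw [hJ, ← CoalgHomClass.map_comp_comul_apply ψ b,
      show (ψ b ⊗ₜ[k] (1 : A)) = TensorProduct.map (ψ : B →ₗ[k] A) (ψ : B →ₗ[k] A) (b ⊗ₜ[k] 1) by simp]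
    erw [← map_sub, ← hpΔ]
    induction Coalgebra.comul (R := k) b using TensorProduct.induction_on with
    | zero => rw [map_zero, map_zero]; exact Submodule.zero_mem _
    | add x y hx hy => rw [map_add, map_add]; exact Submodule.add_mem _ hx hy
    | tmul x y => exact ⟨ψ x ⊗ₜ[k] ⟨ψ (p y), Ideal.mem_map_of_mem (ψ : B →+* A) (hp y)⟩, rfl⟩)
  rw [← hψ hc]
  exact c.2

theorem exists_unipotent_kernel_sep {K : Type u} [Field K] [Algebra k K] [FiniteDimensional k K] [IsGalois k K]
    (hT : Exh (glSpan K (K ⊗[k] A))) :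
    ∃ (B : Type u) (_ : CommRing B) (_ : HopfAlgebra k B) (ψ : B →ₐc[k] A) (J : Ideal A) (_ : J.IsHopfIdeal k),
      Function.Injective ψ ∧ HopfRep.IsDiagonalizable (AlgebraicClosure k) (AlgebraicClosure k ⊗[k] B) ∧
        J = Ideal.map (ψ : B →+* A) (RingHom.ker (Bialgebra.counitAlgHom k B)) ∧
        HopfRep.IsUnipotent k (A ⧸ J) := by
  classical
  let GK : Subalgebra K (K ⊗[k] A) := Algebra.adjoin K {g | IsGroupLikeElem K g}
  have hGK : ∀ x, x ∈ GK ↔ x ∈ glSpan K (K ⊗[k] A) := by
    intro x
    rw [← Subalgebra.mem_toSubmodule, Algebra.adjoin_eq_span]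
    have : ((Submonoid.closure {g : K ⊗[k] A | IsGroupLikeElem K g}) : Set (K ⊗[k] A)) =
        {g : K ⊗[k] A | IsGroupLikeElem K g} := by
      refine Set.Subset.antisymm (fun g hg => ?_) Submonoid.subset_closure
      induction hg using Submonoid.closure_induction with
      | mem g hg => exact hg
      | one => exact IsGroupLikeElem.one
      | mul x y _ _ hx hy => exact hx.mul hy
    rw [this]
    rfl
  let P : Subalgebra k A :=
    (GK.restrictScalars k).comap (Algebra.TensorProduct.includeRight : A →ₐ[k] K ⊗[k] A)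
  have hP : ∀ a, a ∈ P ↔ (1 : K) ⊗ₜ[k] a ∈ glSpan K (K ⊗[k] A) := fun a => hGK _
  have hgl : ∀ w ∈ glSpan K (K ⊗[k] A),
      w ∈ Submodule.span K ((fun a : A => (1 : K) ⊗ₜ[k] a) '' (P : Set A)) := by
    intro w hw
    have := mem_span_fixed (glSpan K (K ⊗[k] A)) (fun σ x hx => ?_) hw
    · rwa [show {a : A | (1 : K) ⊗ₜ[k] a ∈ glSpan K (K ⊗[k] A)} = (P : Set A) from
        Set.ext fun a => (hP a).symm] at this
    · induction hx using Submodule.span_induction with
      | mem g hg => exact Submodule.subset_span (isGroupLike_mA _ hg)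
      | zero => rw [map_zero]; exact Submodule.zero_mem _
      | add x y _ _ hx hy => rw [map_add]; exact Submodule.add_mem _ hx hy
      | smul c x _ hx =>
        rw [mA_smul]
        exact Submodule.smul_mem _ _ hx
  -- a projection onto `P`
  obtain ⟨π, hπ⟩ := (Subalgebra.toSubmodule P).subtype.exists_leftInverse_of_injective (Submodule.ker_subtype _)
  let pA : A →ₗ[k] A := (Subalgebra.toSubmodule P).subtype ∘ₗ π
  have hpA : ∀ a ∈ P, pA a = a := fun a ha => congrArg Subtype.val (LinearMap.congr_fun hπ ⟨a, ha⟩)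
  have hpK : ∀ w ∈ glSpan K (K ⊗[k] A), pA.baseChange K w = w := by
    intro w hw
    have hw' := hgl w hw
    clear hw
    induction hw' using Submodule.span_induction with
    | mem x hx => obtain ⟨a, ha, rfl⟩ := hx; simp [hpA a ha]
    | zero => simp
    | add x y _ _ hx hy => rw [map_add, hx, hy]
    | smul c x _ hx => rw [map_smul, hx]
  have hcomm : ∀ z : A ⊗[k] A, TensorProduct.map (pA.baseChange K) (pA.baseChange K) (bcPair K z) =
      bcPair K (TensorProduct.map pA pA z) := by
    intro z
    induction z using TensorProduct.induction_on with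
    | zero => simp
    | tmul p q => simp
    | add p q hp hq => simp only [map_add, hp, hq]
  have hbij : Function.Injective (bcPair (R := k) (A := A) K) := by
    intro x y hxy
    have key : ∀ z : A ⊗[k] A, bcPair K z =
        (TensorProduct.AlgebraTensorModule.distribBaseChange k K A A).symm.symm ((1 : K) ⊗ₜ[k] z) := by
      intro z
      induction z using TensorProduct.induction_on with
      | zero => simp
      | tmul p q => simp
      | add p q hp hq => simp only [tmul_add, map_add, hp, hq]
    rw [key, key] at hxy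
    have h := (LinearEquiv.injective _) hxy
    have hi := Module.Flat.rTensor_preserves_injective_linearMap (M := A ⊗[k] A) (Algebra.linearMap k K)
      (algebraMap k K).injective
    have := @hi ((1 : k) ⊗ₜ[k] x) ((1 : k) ⊗ₜ[k] y) (by simpa using h)
    simpa using congrArg (TensorProduct.lid k (A ⊗[k] A)) this
  have hfix : ∀ w ∈ glSpan K (K ⊗[k] A), TensorProduct.map (pA.baseChange K) (pA.baseChange K)
      (Coalgebra.comul (R := K) w) = Coalgebra.comul (R := K) w := by
    intro w hw
    induction hw using Submodule.span_induction with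
    | mem g hg =>
      rw [IsGroupLikeElem.comul_eq_tmul_self hg, TensorProduct.map_tmul, hpK g (Submodule.subset_span hg)]
    | zero => simp
    | add x y _ _ hx hy => rw [map_add, map_add, hx, hy]
    | smul c x _ hx => rw [map_smul, map_smul, hx]
  have hHopf : SGA3.IsHopfSubalgebra k A P := by
    refine ⟨fun b hb => ?_, fun b hb => ?_⟩
    · have h1 : TensorProduct.map pA pA (Coalgebra.comul (R := k) b) = Coalgebra.comul (R := k) b := by
        apply hbij
        rw [← hcomm, ← CoradFil.comul_one_tmul K b, hfix _ ((hP b).1 hb)]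
      refine ⟨TensorProduct.map π π (Coalgebra.comul (R := k) b), ?_⟩
      refine Eq.trans ?_ h1
      induction Coalgebra.comul (R := k) b using TensorProduct.induction_on with
      | zero => simp
      | tmul p q => rfl
      | add p q hp hq => simp only [map_add, hp, hq]
    · rw [hP]
      have hS : ∀ w ∈ glSpan K (K ⊗[k] A), HopfAlgebra.antipode K w ∈ glSpan K (K ⊗[k] A) := by
        intro w hw
        induction hw using Submodule.span_induction with
        | mem g hg => exact Submodule.subset_span (IsGroupLikeElem.antipode hg)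
        | zero => simp
        | add x y _ _ hx hy => rw [map_add]; exact Submodule.add_mem _ hx hy
        | smul c x _ hx => rw [map_smul]; exact Submodule.smul_mem _ c hx
      have e : HopfAlgebra.antipode K ((1 : K) ⊗ₜ[k] b) = (1 : K) ⊗ₜ[k] HopfAlgebra.antipode k b := by
        simp [TensorProduct.antipode_def]
      rw [← e]
      exact hS _ ((hP b).1 hb)
  letI : HopfAlgebra k P := GrpSchLib.SubHopf.hopf P hHopf
  let ψ : P →ₐc[k] A := BialgHom.ofAlgHom P.val rfl
    (AlgHom.ext fun b => GrpSchLib.SubHopf.map_comulRes P hHopf b)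
  haveI hI : (Ideal.map (ψ : P →+* A) (RingHom.ker (Bialgebra.counitAlgHom k P))).IsHopfIdeal k :=
    MultTypeLib.isHopfIdeal_map_ker ψ
  set J := Ideal.map (ψ : P →+* A) (RingHom.ker (Bialgebra.counitAlgHom k P)) with hJ
  let ψK : K ⊗[k] P →ₐc[K] K ⊗[k] A := Bialgebra.TensorProduct.map (BialgHom.id K K) ψ
  have hψK : Function.Injective ψK := by
    have hi := Module.Flat.lTensor_preserves_injective_linearMap (M := K) (ψ : P →ₗ[k] A) Subtype.val_injective
    intro x y hxy
    apply hi
    have e : ∀ z : K ⊗[k] P, (ψ : P →ₗ[k] A).lTensor K z = ψK z := by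
      intro z
      induction z using TensorProduct.induction_on with
      | zero => simp
      | tmul p q => rfl
      | add p q hp hq => simp only [map_add, hp, hq]
    rw [e, e, hxy]
  have hrange : ∀ w ∈ glSpan K (K ⊗[k] A), ∃ x, ψK x = w := by
    intro w hw
    have hw' := hgl w hw
    clear hw
    induction hw' using Submodule.span_induction with
    | mem x hx => obtain ⟨a, ha, rfl⟩ := hx; exact ⟨(1 : K) ⊗ₜ[k] (⟨a, ha⟩ : P), rfl⟩
    | zero => exact ⟨0, map_zero _⟩
    | add x y _ _ hx hy =>
      obtain ⟨x', rfl⟩ := hx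
      obtain ⟨y', rfl⟩ := hy
      exact ⟨x' + y', map_add _ _ _⟩
    | smul c x _ hx =>
      obtain ⟨x', rfl⟩ := hx
      exact ⟨c • x', map_smul _ _ _⟩
  have hrefl : ∀ x, IsGroupLikeElem K (ψK x) → IsGroupLikeElem K x := by
    intro x hx
    refine ⟨?_, ?_⟩
    · rw [← CoalgHomClass.counit_comp_apply ψK x]; exact hx.counit_eq_one
    · refine TensorProduct.map_injective_of_flat_flat (ψK : K ⊗[k] P →ₗ[K] K ⊗[k] A)
        (ψK : K ⊗[k] P →ₗ[K] K ⊗[k] A) hψK hψK ?_
      rw [TensorProduct.map_tmul]
      exact (CoalgHomClass.map_comp_comul_apply ψK x).trans hx.comul_eq_tmul_self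
  have hdiagK : ∀ x : K ⊗[k] P, x ∈ Submodule.span K {g : K ⊗[k] P | IsGroupLikeElem K g} := by
    have hb : ∀ b : P, (1 : K) ⊗ₜ[k] b ∈ Submodule.span K {g : K ⊗[k] P | IsGroupLikeElem K g} := by
      intro b
      have hle : glSpan K (K ⊗[k] A) ≤
          (Submodule.span K {g : K ⊗[k] P | IsGroupLikeElem K g}).map (ψK : K ⊗[k] P →ₗ[K] K ⊗[k] A) := by
        refine Submodule.span_le.2 fun g hg => ?_
        obtain ⟨x, rfl⟩ := hrange g (Submodule.subset_span hg)
        exact ⟨x, Submodule.subset_span (hrefl x hg), rfl⟩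
      obtain ⟨x, hx, hxe⟩ := hle ((hP b.1).1 b.2)
      rwa [← hψK (show ψK x = ψK ((1 : K) ⊗ₜ[k] b) from hxe)]
    intro x
    induction x using TensorProduct.induction_on with
    | zero => exact Submodule.zero_mem _
    | tmul c b =>
      rw [show c ⊗ₜ[k] b = c • ((1 : K) ⊗ₜ[k] b) by rw [smul_tmul', smul_eq_mul, mul_one]]
      exact Submodule.smul_mem _ c (hb b)
    | add x y hx hy => exact Submodule.add_mem _ hx hy
  refine ⟨P, inferInstance, inferInstance, ψ, J, hI, Subtype.val_injective, ?_, rfl, ?_⟩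
  · show Submodule.span _ {g : AlgebraicClosure k ⊗[k] P | IsGroupLikeElem (AlgebraicClosure k) g} = ⊤
    let ι : K →ₐ[k] AlgebraicClosure k := IsAlgClosed.lift
    refine eq_top_iff.2 fun x _ => ?_
    induction x using TensorProduct.induction_on with
    | zero => exact Submodule.zero_mem _
    | add x y hx hy => exact Submodule.add_mem _ (hx trivial) (hy trivial)
    | tmul c b =>
      rw [show c ⊗ₜ[k] b = c • mA P ι ((1 : K) ⊗ₜ[k] b) by
        simp [smul_tmul']]
      refine Submodule.smul_mem _ c ?_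
      have hb' := hdiagK ((1 : K) ⊗ₜ[k] b)
      generalize (1 : K) ⊗ₜ[k] b = z at hb' ⊢
      induction hb' using Submodule.span_induction with
      | mem g hg => exact Submodule.subset_span (isGroupLike_mA ι hg)
      | zero => rw [map_zero]; exact Submodule.zero_mem _
      | add x y _ _ hx hy => rw [map_add]; exact Submodule.add_mem _ hx hy
      | smul d x _ hx =>
        rw [mA_smul]
        exact Submodule.smul_mem _ _ hx
  · refine (Groth.Agent.S7951.result k K (A ⧸ J)).2 (isUnipotent_of_exh ?_)
    let F : K ⊗[k] A →ₐc[K] K ⊗[k] (A ⧸ J) :=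
      Bialgebra.TensorProduct.map (BialgHom.id K K) (Bialgebra.Quotient.mkBialgHom (R := k) J)
    have hF1 : ∀ x : K ⊗[k] P, F (ψK x) = Coalgebra.counit (R := K) x • 1 := by
      intro x
      induction x using TensorProduct.induction_on with
      | zero => simp
      | add x y hx hy => rw [map_add, map_add, hx, hy, map_add, add_smul]
      | tmul c b =>
        have hb : Ideal.Quotient.mk J (ψ b) = Coalgebra.counit (R := k) b • (1 : A ⧸ J) := by
          have : ψ (b - Coalgebra.counit (R := k) b • 1) ∈ J :=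
            Ideal.mem_map_of_mem (ψ : P →+* A) (show b - Coalgebra.counit (R := k) b • 1 ∈
              RingHom.ker (Bialgebra.counitAlgHom k P) by simp [RingHom.mem_ker])
          have h0 := Ideal.Quotient.eq_zero_iff_mem.2 this
          rw [map_sub, map_smul, map_one, map_sub, sub_eq_zero] at h0
          exact h0.trans (map_smul (Ideal.Quotient.mkₐ k J) _ 1)
        show c ⊗ₜ[k] Ideal.Quotient.mk J (ψ b) = _
        rw [hb, TensorProduct.tmul_smul, TensorProduct.counit_tmul]
        simp [Algebra.TensorProduct.one_def, smul_tmul', Algebra.smul_def, mul_comm]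
    intro t
    have hsurj : Function.Surjective F := by
      intro y
      induction y using TensorProduct.induction_on with
      | zero => exact ⟨0, map_zero _⟩
      | tmul c q =>
        obtain ⟨a, rfl⟩ := Ideal.Quotient.mk_surjective q
        exact ⟨c ⊗ₜ[k] a, rfl⟩
      | add x y hx hy =>
        obtain ⟨x', rfl⟩ := hx
        obtain ⟨y', rfl⟩ := hy
        exact ⟨x' + y', map_add _ _ _⟩
    obtain ⟨y, rfl⟩ := hsurj t
    obtain ⟨r, hr⟩ := hT y
    refine ⟨r, wedge_map_gl F (fun g hg => ?_) hr⟩
    obtain ⟨x, rfl⟩ := hrange g (Submodule.subset_span hg)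
    rw [hF1, (hrefl x hg).counit_eq_one, one_smul]

theorem trig_of_sep_kernel {B : Type u} [CommRing B] [HopfAlgebra k B] (ψ : B →ₐc[k] A)
    (hψ : Function.Injective ψ) (hB : HopfRep.IsDiagonalizable (AlgebraicClosure k) (AlgebraicClosure k ⊗[k] B))
    (J : Ideal A) [J.IsHopfIdeal k]
    (hJ : J = Ideal.map (ψ : B →+* A) (RingHom.ker (Bialgebra.counitAlgHom k B)))
    (hU : HopfRep.IsUnipotent k (A ⧸ J)) :
    ∃ (k' : Type u) (_ : Field k') (_ : Algebra k k'),
        FiniteDimensional k k' ∧ Algebra.IsSeparable k k' ∧ HopfRep.IsTrigonalizable k' (k' ⊗[k] A) := by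
  classical
  have hft : Algebra.FiniteType k B := finiteType_of_injective ψ hψ
  have hMT : SGA3b.IsMultType k B :=
    MultTypeLib.isMultType_of_ff (AlgebraicClosure k) (Groth.Agent.S16065.isDiag_of_isDiagonalizable hB)
  obtain ⟨K, _, _, hfin, hsep, M, _, -, ⟨e⟩⟩ := MultTypeLib.isotrivial_of_field k B hft hMT
  refine ⟨K, inferInstance, inferInstance, hfin, hsep, ?_⟩
  have hdiag : HopfRep.IsDiagonalizable K (K ⊗[k] B) := by
    show Submodule.span K {g : K ⊗[k] B | IsGroupLikeElem K g} = ⊤
    refine eq_top_iff.2 fun z _ => ?_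
    obtain ⟨y, rfl⟩ : ∃ y, e.symm y = z := ⟨e z, e.symm_apply_apply z⟩
    induction y using MonoidAlgebra.induction_linear with
    | zero => rw [map_zero]; exact zero_mem _
    | add a b ha hb => rw [map_add]; exact add_mem (ha trivial) (hb trivial)
    | single m r =>
      rw [show MonoidAlgebra.single m r = r • MonoidAlgebra.single m (1 : K) by simp, map_smul]
      exact Submodule.smul_mem _ _ (Submodule.subset_span
        ((SemiBialgHom.ofBialgHom (e.symm : MonoidAlgebra K M →ₐc[K] K ⊗[k] B)).isGroupLike (isGroupLike_single m)))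
  let ψK : K ⊗[k] B →ₐc[K] K ⊗[k] A := Bialgebra.TensorProduct.map (BialgHom.id K K) ψ
  let F : K ⊗[k] A →ₐc[K] K ⊗[k] (A ⧸ J) :=
    Bialgebra.TensorProduct.map (BialgHom.id K K) (Bialgebra.Quotient.mkBialgHom (R := k) J)
  have hψK : Function.Injective ψK := by
    have hi := Module.Flat.lTensor_preserves_injective_linearMap (M := K) (ψ : B →ₗ[k] A) hψ
    intro x y hxy
    apply hi
    have e : ∀ z : K ⊗[k] B, (ψ : B →ₗ[k] A).lTensor K z = ψK z := by
      intro z
      induction z using TensorProduct.induction_on with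
      | zero => simp
      | tmul p q => rfl
      | add p q hp hq => simp only [map_add, hp, hq]
    rw [e, e, hxy]
  have hsurj : Function.Surjective F := by
    intro y
    induction y using TensorProduct.induction_on with
    | zero => exact ⟨0, map_zero _⟩
    | tmul c q =>
      obtain ⟨a, rfl⟩ := Ideal.Quotient.mk_surjective q
      exact ⟨c ⊗ₜ[k] a, rfl⟩
    | add x y hx hy =>
      obtain ⟨x', rfl⟩ := hx
      obtain ⟨y', rfl⟩ := hy
      exact ⟨x' + y', map_add _ _ _⟩
  refine isTrigonalizable_of_unipotent_kernel' ψK hψK hdiag F hsurj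
    (Ideal.map (ψK : K ⊗[k] B →+* K ⊗[k] A) (RingHom.ker (Bialgebra.counitAlgHom K (K ⊗[k] B))))
    (fun z => ⟨fun hz => ?_, fun hz => ?_⟩) rfl ((Groth.Agent.S7951.result k K (A ⧸ J)).1 hU)
  · have hex := lTensor_exact K (f := (J.restrictScalars k).subtype)
      (g := (Ideal.Quotient.mkₐ k J).toLinearMap) (fun t => ⟨fun ht =>
        ⟨⟨t, (Ideal.Quotient.eq_zero_iff_mem.1 ht : t ∈ J)⟩, rfl⟩, fun ⟨t', ht'⟩ => by
          rw [← ht']; exact Ideal.Quotient.eq_zero_iff_mem.2 t'.2⟩) (fun y => Ideal.Quotient.mk_surjective (I := J) y)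
    obtain ⟨w, rfl⟩ := (hex z).1 (by
      have e : ∀ y, (Ideal.Quotient.mkₐ k J).toLinearMap.lTensor K y = F y := by
        intro y
        induction y using TensorProduct.induction_on with
        | zero => simp
        | tmul p q => rfl
        | add p q hp hq => simp only [map_add, hp, hq]
      exact (e z).trans hz)
    clear hz
    induction w using TensorProduct.induction_on with
    | zero => simp
    | add x y hx hy => rw [map_add]; exact Ideal.add_mem _ hx hy
    | tmul c t =>
      obtain ⟨t, ht⟩ := t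
      show c ⊗ₜ[k] t ∈ _
      rw [show c ⊗ₜ[k] t = (c ⊗ₜ[k] (1 : A)) * ((1 : K) ⊗ₜ[k] t) by simp]
      refine Ideal.mul_mem_left _ _ ?_
      have hle : Ideal.map (ψ : B →+* A) (RingHom.ker (Bialgebra.counitAlgHom k B)) ≤
          (Ideal.map (ψK : K ⊗[k] B →+* K ⊗[k] A) (RingHom.ker (Bialgebra.counitAlgHom K (K ⊗[k] B)))).comap
            (Algebra.TensorProduct.includeRight : A →ₐ[k] K ⊗[k] A) := by
        rw [Ideal.map_le_iff_le_comap]
        intro b hb
        show ψK ((1 : K) ⊗ₜ[k] b) ∈ Ideal.map (ψK : K ⊗[k] B →+* K ⊗[k] A) _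
        refine Ideal.mem_map_of_mem (ψK : K ⊗[k] B →+* K ⊗[k] A) (x := (1 : K) ⊗ₜ[k] b) ?_
        rw [RingHom.mem_ker]
        show Coalgebra.counit (R := K) ((1 : K) ⊗ₜ[k] b) = 0
        rw [TensorProduct.counit_tmul, show Coalgebra.counit (R := k) b = 0 from hb]
        simp
      exact hle (hJ ▸ ht)
  · refine (Ideal.map_le_iff_le_comap.2 (fun x hx => ?_) : _ ≤ RingHom.ker (F : K ⊗[k] A →+* K ⊗[k] (A ⧸ J))) hz
    show F (ψK x) = 0
    have hF1 : ∀ x : K ⊗[k] B, F (ψK x) = Coalgebra.counit (R := K) x • 1 := by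
      intro x
      induction x using TensorProduct.induction_on with
      | zero => simp
      | add x y hx hy => rw [map_add, map_add, hx, hy, map_add, add_smul]
      | tmul c b =>
        have hb : Ideal.Quotient.mk J (ψ b) = Coalgebra.counit (R := k) b • (1 : A ⧸ J) := by
          have : ψ (b - Coalgebra.counit (R := k) b • 1) ∈ J := by
            rw [hJ]
            exact Ideal.mem_map_of_mem (ψ : B →+* A) (show b - Coalgebra.counit (R := k) b • 1 ∈
              RingHom.ker (Bialgebra.counitAlgHom k B) by simp [RingHom.mem_ker])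
          have h0 := Ideal.Quotient.eq_zero_iff_mem.2 this
          rw [map_sub, map_smul, map_one, map_sub, sub_eq_zero] at h0
          exact h0.trans (map_smul (Ideal.Quotient.mkₐ k J) _ 1)
        show c ⊗ₜ[k] Ideal.Quotient.mk J (ψ b) = _
        rw [hb, TensorProduct.tmul_smul, TensorProduct.counit_tmul]
        simp [Algebra.TensorProduct.one_def, smul_tmul', Algebra.smul_def, mul_comm]
    rw [hF1, show Coalgebra.counit (R := K) x = 0 from hx, zero_smul]

end Groth.Agent.UniPrim
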