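import Groth.Agent.UniPrim.Basic
import Groth.Agent.MultTypeLib.HopfKer

/-!
# Trigonalizable groups as extensions of diagonalizable groups by unipotent ones
-/

universe u

set_option autoImplicit false

open TensorProduct
open Groth.Agent

noncomputable section

namespace Groth.Agent.UniPrim

open CoradFil ComodLib

variable {k : Type u} [Field k] {A C : Type u} [CommRing A] [HopfAlgebra k A] [Algebra.FiniteType k A]
  [CommRing C] [HopfAlgebra k C]

/-- Over a unipotent kernel of `Spec A → Spec C` some vector has all its coefficients in `C`. -/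
theorem exists_coeff_mem_range [Algebra.FiniteType k C] (ψ : C →ₐc[k] A) (hψ : Function.Injective ψ)
    {T : Type u} [CommRing T] [Bialgebra k T] (q : A →ₐc[k] T) (hq : Function.Surjective q) (J : Ideal A)
    (hqJ : ∀ a, q a = 0 ↔ a ∈ J)
    (hJ : J = Ideal.map (ψ : C →+* A) (RingHom.ker (Bialgebra.counitAlgHom k C)))
    (hU : HopfRep.IsUnipotent k T)
    (V : Type u) [AddCommGroup V] [Module k V] [HopfRep.Comod k A V] [Module.Finite k V] [Nontrivial V] :
    ∃ v : V, v ≠ 0 ∧ ∀ f : V →ₗ[k] k,
      TensorProduct.lid k A (f.rTensor A (HopfRep.Comod.coact (k := k) (A := A) v)) ∈ Set.range ψ := by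
  obtain ⟨v, hv, hc⟩ : ∃ v : V, v ≠ 0 ∧
      (q : A →ₗ[k] T).lTensor V (HopfRep.Comod.coact (k := k) (A := A) v) = v ⊗ₜ[k] 1 := by
    letI c' : HopfRep.Comod k T V :=
      pushComod (q : A →ₗc[k] T) (inferInstance : HopfRep.Comod k A V)
    obtain ⟨w, hw, hfix⟩ := (Submodule.ne_bot_iff _).1 (hU V inferInstance inferInstance)
    exact ⟨w, hfix, hw⟩
  let z := HopfRep.Comod.coact (k := k) (A := A) v
  obtain ⟨w, hw⟩ : ∃ w : V ⊗[k] (J.restrictScalars k),
      (J.restrictScalars k).subtype.lTensor V w = z - v ⊗ₜ[k] 1 := by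
    refine LinearMap.mem_range.1 ((lTensor_exact V (f := (J.restrictScalars k).subtype)
      (g := (q : A →ₗ[k] T)) ?_ ?_ _).1 ?_)
    · intro t
      constructor
      · intro ht
        exact ⟨⟨t, (hqJ t).1 ht⟩, rfl⟩
      · rintro ⟨t, rfl⟩
        exact (hqJ t.1).2 t.2
    · exact hq
    · rw [map_sub, LinearMap.lTensor_tmul, hc, sub_eq_zero]
      exact congrArg (fun t => v ⊗ₜ[k] t) (show (1 : T) = q 1 from (map_one q).symm)
  refine ⟨v, hv, fun f => ?_⟩
  have hco := LinearMap.congr_fun (HopfRep.Comod.coassoc (k := k) (A := A) (V := V)) v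
  simp only [LinearMap.comp_apply, LinearEquiv.coe_coe] at hco
  let G : V ⊗[k] (A ⊗[k] A) →ₗ[k] A ⊗[k] A := (TensorProduct.lid k (A ⊗[k] A)).toLinearMap ∘ₗ f.rTensor (A ⊗[k] A)
  have hl : ∀ y : V ⊗[k] A, G (CoalgebraStruct.comul.lTensor V y) =
      Coalgebra.comul (R := k) (TensorProduct.lid k A (f.rTensor A y)) := by
    intro y
    induction y using TensorProduct.induction_on with
    | zero => simp
    | tmul a b => simp [G]
    | add a b ha hb => simp only [map_add, ha, hb]
  have hr : ∀ y : V ⊗[k] A, G (TensorProduct.assoc k V A A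
      ((HopfRep.Comod.coact (k := k) (A := A) (V := V)).rTensor A y)) =
      ((TensorProduct.lid k A).toLinearMap ∘ₗ f.rTensor A ∘ₗ HopfRep.Comod.coact (k := k) (A := A)).rTensor A y := by
    intro y
    induction y using TensorProduct.induction_on with
    | zero => simp
    | tmul a b =>
      simp only [LinearMap.rTensor_tmul, LinearMap.comp_apply, LinearEquiv.coe_coe]
      induction HopfRep.Comod.coact (k := k) (A := A) a using TensorProduct.induction_on with
      | zero => simp
      | tmul p p' => simp [G, TensorProduct.smul_tmul']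
      | add p p' hp hp' => simp only [TensorProduct.add_tmul, map_add, hp, hp']
    | add a b ha hb => simp only [map_add, ha, hb]
  have key := congrArg G hco
  rw [hl, hr] at key
  refine mem_range_of_comul_sub_mem ψ hψ (TensorProduct.lid k A (f.rTensor A z)) ?_
  rw [← hJ]
  refine ⟨((TensorProduct.lid k A).toLinearMap ∘ₗ f.rTensor A ∘ₗ
    HopfRep.Comod.coact (k := k) (A := A)).rTensor _ w, ?_⟩
  rw [← LinearMap.comp_apply, LinearMap.lTensor_comp_rTensor, ← LinearMap.rTensor_comp_lTensor,
    LinearMap.comp_apply, hw, map_sub, LinearMap.rTensor_tmul, key]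
  rfl

theorem isTrigonalizable_of_unipotent_kernel' (ψ : C →ₐc[k] A) (hψ : Function.Injective ψ)
    (hC : HopfRep.IsDiagonalizable k C)
    {T : Type u} [CommRing T] [Bialgebra k T] (q : A →ₐc[k] T) (hq : Function.Surjective q) (J : Ideal A)
    (hqJ : ∀ a, q a = 0 ↔ a ∈ J)
    (hJ : J = Ideal.map (ψ : C →+* A) (RingHom.ker (Bialgebra.counitAlgHom k C)))
    (hU : HopfRep.IsUnipotent k T) : HopfRep.IsTrigonalizable k A := by
  classical
  haveI : IsNoetherianRing A := Algebra.FiniteType.isNoetherianRing k A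
  let E : Set A := (fun g : C => ψ g - 1) '' {g : C | IsGroupLikeElem k g}
  have hJE : J = Ideal.span E := by
    refine le_antisymm ?_ (Ideal.span_le.2 ?_)
    · rw [hJ, Ideal.map_le_iff_le_comap]
      intro b hb
      have key : ∀ b : C, ψ b - Coalgebra.counit (R := k) b • (1 : A) ∈ Ideal.span E := by
        intro b
        have hb' : b ∈ Submodule.span k {g : C | IsGroupLikeElem k g} := by
          rw [show Submodule.span k {g : C | IsGroupLikeElem k g} = ⊤ from hC]; trivial
        induction hb' using Submodule.span_induction with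
        | mem g hg =>
          rw [hg.counit_eq_one, one_smul]
          exact Ideal.subset_span ⟨g, hg, rfl⟩
        | zero => simp
        | add x y _ _ hx hy => rw [map_add, map_add, add_smul, add_sub_add_comm]; exact Ideal.add_mem _ hx hy
        | smul c x _ hx =>
          rw [map_smul, map_smul, smul_eq_mul, ← smul_smul, ← smul_sub, Algebra.smul_def]
          exact Ideal.mul_mem_left _ _ hx
      have := key b
      rwa [show Coalgebra.counit (R := k) b = 0 from hb, zero_smul, sub_zero] at this
    · rintro _ ⟨g, hg, rfl⟩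
      show ψ g - 1 ∈ J
      rw [hJ, ← map_one ψ, ← map_sub]
      exact Ideal.mem_map_of_mem (ψ : C →+* A) (show g - 1 ∈ RingHom.ker (Bialgebra.counitAlgHom k C) by
        simp [RingHom.mem_ker, show Coalgebra.counit (R := k) g = 1 from hg.counit_eq_one])
  obtain ⟨F, hFE, hFJ⟩ := (Submodule.fg_span_iff_fg_span_finset_subset (R := A) E).1 (IsNoetherian.noetherian _)
  have hF' : ∀ e ∈ F, ∃ g : C, IsGroupLikeElem k g ∧ ψ g - 1 = e := fun e he => hFE he
  choose g hg hge using hF'
  let S : Finset C := F.attach.image (fun e => g e.1 e.2) ∪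
    F.attach.image (fun e => HopfAlgebra.antipode k (g e.1 e.2))
  have hS : ∀ s ∈ S, IsGroupLikeElem k s ∧ HopfAlgebra.antipode k s ∈ S := by
    intro s hs
    rcases Finset.mem_union.1 hs with h | h <;> obtain ⟨e, he, rfl⟩ := Finset.mem_image.1 h
    · exact ⟨hg _ _, Finset.mem_union_right _ (Finset.mem_image_of_mem _ he)⟩
    · have h2 : HopfAlgebra.antipode k (HopfAlgebra.antipode k (g e.1 e.2)) = g e.1 e.2 :=
        left_inv_eq_right_inv (hg e.1 e.2).antipode.antipode_mul_cancel (hg e.1 e.2).antipode_mul_cancel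
      exact ⟨(hg _ _).antipode, Finset.mem_union_left _ (by rw [h2]; exact Finset.mem_image_of_mem _ he)⟩
  let P := Algebra.adjoin k (S : Set C)
  haveI : Algebra.FiniteType k P := ⟨(Subalgebra.fg_top P).2 ⟨S, rfl⟩⟩
  have h1 : ∀ b : P, Coalgebra.comul (R := k) (P.val b) ∈ (Algebra.TensorProduct.map P.val P.val).range := by
    intro b
    have : P ≤ (Algebra.TensorProduct.map P.val P.val).range.comap (Bialgebra.comulAlgHom k C) :=
      Algebra.adjoin_le fun s hs => ⟨(⟨s, Algebra.subset_adjoin hs⟩ : P) ⊗ₜ[k] (⟨s, Algebra.subset_adjoin hs⟩ : P), by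
        show Algebra.TensorProduct.map P.val P.val _ = Coalgebra.comul (R := k) s
        rw [(hS s hs).1.comul_eq_tmul_self]; rfl⟩
    exact this b.2
  have h2 : ∀ b : P, HopfAlgebraStruct.antipode (R := k) (P.val b) ∈ P.val.range := by
    intro b
    have hP : P ≤ P.comap (HopfAlgebra.antipodeAlgHom k C) := Algebra.adjoin_le fun s hs =>
      Algebra.subset_adjoin (hS s hs).2
    exact ⟨⟨_, hP b.2⟩, rfl⟩
  letI : HopfAlgebra k P := GrpSchLib.HopfTransfer.hopf P.val Subtype.val_injective h1 h2
  let j : P →ₐc[k] C := BialgHom.ofAlgHom P.val rfl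
    (AlgHom.ext fun b => GrpSchLib.HopfTransfer.map_comulRes P.val Subtype.val_injective h1 b)
  have hJ' : J = Ideal.map ((ψ.comp j : P →ₐc[k] A) : P →+* A) (RingHom.ker (Bialgebra.counitAlgHom k P)) := by
    refine le_antisymm ?_ ?_
    · rw [hJE, show Ideal.span E = Ideal.span (F : Set A) from hFJ, Ideal.span_le]
      intro e he
      rw [← hge e he]
      have hmem : g e he ∈ P := Algebra.subset_adjoin
        (Finset.mem_union_left _ (Finset.mem_image.2 ⟨⟨e, he⟩, Finset.mem_attach _ _, rfl⟩))
      rw [show ψ (g e he) - 1 = (ψ.comp j) (⟨g e he, hmem⟩ - 1 : P) by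
        rw [map_sub, map_one]; rfl]
      exact Ideal.mem_map_of_mem ((ψ.comp j : P →ₐc[k] A) : P →+* A)
        (show (⟨g e he, hmem⟩ - 1 : P) ∈ RingHom.ker (Bialgebra.counitAlgHom k P) by
          rw [RingHom.mem_ker, map_sub, map_one, sub_eq_zero]
          exact (hg e he).counit_eq_one)
    · rw [Ideal.map_le_iff_le_comap]
      intro b hb
      rw [hJ]
      exact Ideal.mem_map_of_mem (ψ : C →+* A)
        (show b.1 ∈ RingHom.ker (Bialgebra.counitAlgHom k C) from hb)
  intro V _ _ _ hfin hs
  haveI : Nontrivial V := hs.1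
  haveI := hfin
  obtain ⟨v, hv, hcoef⟩ := exists_coeff_mem_range (ψ.comp j) (hψ.comp Subtype.val_injective) q hq J hqJ hJ' hU V
  refine finrank_eq_one_of_coact_mem hs hv ?_
  let b := Module.finBasis k V
  have hsum : ∀ y : V ⊗[k] A, y = ∑ i, b i ⊗ₜ[k] TensorProduct.lid k A ((b.coord i).rTensor A y) := by
    intro y
    induction y using TensorProduct.induction_on with
    | zero => simp
    | tmul a t =>
      conv_lhs => rw [← b.sum_repr a, TensorProduct.sum_tmul]
      simp [TensorProduct.smul_tmul']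
    | add a t ha ht => simp only [map_add, TensorProduct.tmul_add, Finset.sum_add_distrib, ← ha, ← ht]
  rw [hsum (HopfRep.Comod.coact (k := k) (A := A) v)]
  refine Submodule.sum_mem _ fun i _ => ?_
  obtain ⟨p, hp⟩ := hcoef (b.coord i)
  suffices hmem : TensorProduct.lid k A ((b.coord i).rTensor A (HopfRep.Comod.coact (k := k) (A := A) v)) ∈ glSpan k A from
    ⟨b i ⊗ₜ[k] ⟨_, hmem⟩, rfl⟩
  rw [← hp]
  have hle : ∀ c : C, ψ c ∈ glSpan k A := by
    intro c
    have hc : c ∈ Submodule.span k {g : C | IsGroupLikeElem k g} := by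
      rw [show Submodule.span k {g : C | IsGroupLikeElem k g} = ⊤ from hC]; trivial
    induction hc using Submodule.span_induction with
    | mem g hg => exact Submodule.subset_span (hg.map ψ)
    | zero => simp
    | add x y _ _ hx hy => rw [map_add]; exact Submodule.add_mem _ hx hy
    | smul c x _ hx => rw [map_smul]; exact Submodule.smul_mem _ c hx
  exact hle p.1

theorem isTrigonalizable_of_unipotent_kernel (ψ : C →ₐc[k] A) (hψ : Function.Injective ψ)
    (hC : HopfRep.IsDiagonalizable k C) (J : Ideal A) [J.IsHopfIdeal k]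
    (hJ : J = Ideal.map (ψ : C →+* A) (RingHom.ker (Bialgebra.counitAlgHom k C)))
    (hU : HopfRep.IsUnipotent k (A ⧸ J)) : HopfRep.IsTrigonalizable k A :=
  isTrigonalizable_of_unipotent_kernel' ψ hψ hC (Bialgebra.Quotient.mkBialgHom (R := k) J)
    (fun y => Ideal.Quotient.mk_surjective (I := J) y) J (fun _ => Ideal.Quotient.eq_zero_iff_mem) hJ hU

theorem wedge_map_gl {T : Type u} [CommRing T] [Bialgebra k T] (f : A →ₐc[k] T)
    (hf : ∀ g : A, IsGroupLikeElem k g → f g = 1) {a : A} {r : ℕ} (ha : a ∈ wedge (glSpan k A) r) :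
    f a ∈ wedge (Submodule.span k {(1 : T)}) r := by
  have h0 : ∀ s ∈ glSpan k A, f s ∈ Submodule.span k {(1 : T)} := by
    intro s hs
    induction hs using Submodule.span_induction with
    | mem g hg => rw [hf g hg]; exact Submodule.mem_span_singleton_self 1
    | zero => simp
    | add x y _ _ hx hy => rw [map_add]; exact Submodule.add_mem _ hx hy
    | smul c x _ hx => rw [map_smul]; exact Submodule.smul_mem _ c hx
  induction r generalizing a with
  | zero => exact h0 a ha
  | succ r ih =>
    have ha' : Coalgebra.comul (R := k) a ∈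
        LinearMap.range ((wedge (glSpan k A) r).subtype.rTensor A) ⊔
          LinearMap.range ((glSpan k A).subtype.lTensor A) := ha
    show Coalgebra.comul (R := k) (f a) ∈ LinearMap.range ((wedge (Submodule.span k {(1 : T)}) r).subtype.rTensor T) ⊔
      LinearMap.range ((Submodule.span k {(1 : T)}).subtype.lTensor T)
    rw [← CoalgHomClass.map_comp_comul_apply f a]
    obtain ⟨p, ⟨p', rfl⟩, q, ⟨q', rfl⟩, hpq⟩ := Submodule.mem_sup.1 ha'
    rw [← hpq, map_add]
    refine Submodule.add_mem _ (Submodule.mem_sup_left ?_) (Submodule.mem_sup_right ?_)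
    · clear hpq
      induction p' using TensorProduct.induction_on with
      | zero => simp
      | tmul x y => exact ⟨⟨f x.1, ih x.2⟩ ⊗ₜ[k] f y, rfl⟩
      | add x y hx hy => rw [map_add, map_add]; exact Submodule.add_mem _ hx hy
    · clear hpq
      induction q' using TensorProduct.induction_on with
      | zero => simp
      | tmul x y => exact ⟨f x ⊗ₜ[k] ⟨f y.1, h0 _ y.2⟩, rfl⟩
      | add x y hx hy => rw [map_add, map_add]; exact Submodule.add_mem _ hx hy

theorem exists_unipotent_kernel (hT : HopfRep.IsTrigonalizable k A) :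
    ∃ (B : Type u) (_ : CommRing B) (_ : HopfAlgebra k B) (ψ : B →ₐc[k] A) (J : Ideal A) (_ : J.IsHopfIdeal k),
      Function.Injective ψ ∧ HopfRep.IsDiagonalizable k B ∧
        J = Ideal.map (ψ : B →+* A) (RingHom.ker (Bialgebra.counitAlgHom k B)) ∧
        HopfRep.IsUnipotent k (A ⧸ J) := by
  let P := Algebra.adjoin k {g : A | IsGroupLikeElem k g}
  have h1 : ∀ b : P, Coalgebra.comul (R := k) (P.val b) ∈ (Algebra.TensorProduct.map P.val P.val).range := by
    intro b
    have : P ≤ (Algebra.TensorProduct.map P.val P.val).range.comap (Bialgebra.comulAlgHom k A) :=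
      Algebra.adjoin_le fun s hs => ⟨(⟨s, Algebra.subset_adjoin hs⟩ : P) ⊗ₜ[k] (⟨s, Algebra.subset_adjoin hs⟩ : P), by
        show Algebra.TensorProduct.map P.val P.val _ = Coalgebra.comul (R := k) s
        rw [show Coalgebra.comul (R := k) s = s ⊗ₜ[k] s from IsGroupLikeElem.comul_eq_tmul_self hs]; rfl⟩
    exact this b.2
  have h2 : ∀ b : P, HopfAlgebraStruct.antipode (R := k) (P.val b) ∈ P.val.range := by
    intro b
    have hP : P ≤ P.comap (HopfAlgebra.antipodeAlgHom k A) := Algebra.adjoin_le fun s hs =>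
      Algebra.subset_adjoin (IsGroupLikeElem.antipode hs)
    exact ⟨⟨_, hP b.2⟩, rfl⟩
  letI : HopfAlgebra k P := GrpSchLib.HopfTransfer.hopf P.val Subtype.val_injective h1 h2
  let ψ : P →ₐc[k] A := BialgHom.ofAlgHom P.val rfl
    (AlgHom.ext fun b => GrpSchLib.HopfTransfer.map_comulRes P.val Subtype.val_injective h1 b)
  have hgP : ∀ (g : A) (hg : IsGroupLikeElem k g), IsGroupLikeElem k (⟨g, Algebra.subset_adjoin hg⟩ : P) := by
    intro g hg
    refine ⟨hg.counit_eq_one, ?_⟩
    refine GrpSchLib.HopfTransfer.map_val_injective P.val P.val Subtype.val_injective Subtype.val_injective ?_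
    exact (GrpSchLib.HopfTransfer.map_comulRes P.val Subtype.val_injective h1 _).trans hg.comul_eq_tmul_self
  haveI hI : (Ideal.map (ψ : P →+* A) (RingHom.ker (Bialgebra.counitAlgHom k P))).IsHopfIdeal k :=
    Groth.Agent.MultTypeLib.isHopfIdeal_map_ker ψ
  refine ⟨P, inferInstance, inferInstance, ψ, _, hI, Subtype.val_injective, ?_, rfl, ?_⟩
  · show Submodule.span k {b : P | IsGroupLikeElem k b} = ⊤
    refine eq_top_iff.2 fun b _ => ?_
    have hb : b.1 ∈ Subalgebra.toSubmodule P := b.2
    rw [Algebra.adjoin_eq_span] at hb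
    have hle : Submodule.span k ((Submonoid.closure {g : A | IsGroupLikeElem k g}) : Set A) ≤
        (Submodule.span k {b : P | IsGroupLikeElem k b}).map P.val.toLinearMap := by
      rw [Submodule.span_le]
      intro g hg
      have hg' : IsGroupLikeElem k g := by
        induction hg using Submonoid.closure_induction with
        | mem g hg => exact hg
        | one => exact IsGroupLikeElem.one
        | mul x y _ _ hx hy => exact hx.mul hy
      exact ⟨_, Submodule.subset_span (hgP g hg'), rfl⟩
    obtain ⟨b', hb', hbb⟩ := hle hb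
    rwa [← Subtype.val_injective (show b'.1 = b.1 from hbb)]
  · refine isUnipotent_of_exh fun t => ?_
    obtain ⟨a, rfl⟩ := Ideal.Quotient.mk_surjective t
    obtain ⟨r, hr⟩ := exh_of_isTrigonalizable hT a
    let q : A →ₐc[k] A ⧸ Ideal.map (ψ : P →+* A) (RingHom.ker (Bialgebra.counitAlgHom k P)) :=
      Bialgebra.Quotient.mkBialgHom _
    refine ⟨r, show q a ∈ _ from wedge_map_gl q (fun g hg => ?_) hr⟩
    show Ideal.Quotient.mk _ g = 1
    rw [← map_one (Ideal.Quotient.mk _), Ideal.Quotient.eq]
    rw [show g - 1 = ψ ((⟨g, Algebra.subset_adjoin hg⟩ : P) - 1) by rw [map_sub, map_one]; rfl]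
    exact Ideal.mem_map_of_mem _ (show (⟨g, Algebra.subset_adjoin hg⟩ : P) - 1 ∈ RingHom.ker (Bialgebra.counitAlgHom k P) by
      rw [RingHom.mem_ker, map_sub, map_one, sub_eq_zero]; exact hg.counit_eq_one)

end Groth.Agent.UniPrim
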