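import Groth.Agent.GrpSchLib.HopfFlat
import Groth.Agent.GrpSchLib.HopfQuotEtale
import Groth.Agent.GrpSchLib.SimpleFinite
import Groth.Agent.DescLib.Amitsur
import Groth.Agent.CoradFil.Basic

/-!
# Primitive elements and unipotence
-/

universe u v

set_option autoImplicit false
set_option backward.isDefEq.respectTransparency false
set_option backward.isDefEq.respectTransparency.types false

open TensorProduct WithConv
open Groth.Agent

noncomputable section

namespace Groth.Agent.UniPrim

section Inv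

variable {k : Type u} [Field k] {A C : Type v} [CommRing A] [CommRing C] [HopfAlgebra k A] [HopfAlgebra k C]
  [Algebra.FiniteType k A] [Algebra.FiniteType k C]

/-- For an injective map of commutative Hopf algebras `ψ : C → A`, an element of `A` invariant under
the kernel `Spec A/(ψ C⁺)A` of `Spec A → Spec C` comes from `C`. -/
theorem mem_range_of_comul_sub_mem (ψ : C →ₐc[k] A) (hψ : Function.Injective ψ) (a : A)
    (h : Coalgebra.comul (R := k) a - a ⊗ₜ[k] (1 : A) ∈
      LinearMap.range (((Ideal.map (ψ : C →+* A) (RingHom.ker (Bialgebra.counitAlgHom k C))).restrictScalars k).subtype.lTensor A)) :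
    a ∈ Set.range ψ := by
  letI : Algebra C A := (ψ : C →ₐ[k] A).toRingHom.toAlgebra
  haveI : IsScalarTower k C A := IsScalarTower.of_algebraMap_eq fun c => ((ψ : C →ₐ[k] A).commutes c).symm
  haveI : Module.FaithfullyFlat C A := GrpSchLib.HopfFlat.faithfullyFlat ψ hψ
  let L : A →ₐ[k] A ⊗[C] A := (Algebra.TensorProduct.includeLeft : A →ₐ[C] A ⊗[C] A).restrictScalars k
  let R : A →ₐ[k] A ⊗[C] A := (Algebra.TensorProduct.includeRight : A →ₐ[C] A ⊗[C] A).restrictScalars k
  let Θ : A →ₐ[k] A ⊗[C] A :=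
    (toConv (L.comp (HopfAlgebra.antipodeAlgHom k A)) * toConv R).ofConv
  have hLR : L.comp (ψ : C →ₐ[k] A) = R.comp (ψ : C →ₐ[k] A) :=
    AlgHom.ext fun c => (Algebra.TensorProduct.includeLeft : A →ₐ[C] A ⊗[C] A).commutes c |>.trans
      ((Algebra.TensorProduct.includeRight : A →ₐ[C] A ⊗[C] A).commutes c).symm
  have hΘ : Θ.comp (ψ : C →ₐ[k] A) = (1 : WithConv (C →ₐ[k] A ⊗[C] A)).ofConv := by
    show AlgHom.comp _ (ψ : C →ₐ[k] A) = _
    rw [AlgHom.convMul_comp_bialgHom_distrib]
    simp only [WithConv.ofConv_toConv, AlgHom.comp_assoc]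
    rw [show (HopfAlgebra.antipodeAlgHom k A).comp (ψ : C →ₐ[k] A) =
        (ψ : C →ₐ[k] A).comp (HopfAlgebra.antipodeAlgHom k C) from AlgHom.ext fun c =>
          GrpSchLib.HopfGalois.antipode_bialgHom ψ c, ← AlgHom.comp_assoc, hLR,
      GrpSchLib.HopfQuot.inv_convMul_self]
  have hJ : ∀ z ∈ Ideal.map (ψ : C →+* A) (RingHom.ker (Bialgebra.counitAlgHom k C)), Θ z = 0 := by
    intro z hz
    refine (Ideal.map_le_iff_le_comap.mpr (fun c hc => ?_) : _ ≤ RingHom.ker Θ.toRingHom) hz
    show Θ (ψ c) = 0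
    refine (AlgHom.congr_fun hΘ c).trans ?_
    show algebraMap k _ (Coalgebra.counit (R := k) c) = 0
    rw [show Coalgebra.counit (R := k) c = 0 from hc, map_zero]
  let m : A ⊗[k] A →ₐ[k] A ⊗[C] A := Algebra.TensorProduct.lift L Θ fun _ _ => Commute.all _ _
  have hm : m.comp (Bialgebra.comulAlgHom k A) = R := by
    have h1 : (toConv L * toConv Θ).ofConv = R := by
      show (toConv L * (toConv (L.comp (HopfAlgebra.antipodeAlgHom k A)) * toConv R)).ofConv = R
      rw [← mul_assoc, GrpSchLib.HopfQuot.self_convMul_inv, one_mul]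
    refine AlgHom.ext fun x => ?_
    refine Eq.trans ?_ (AlgHom.congr_fun h1 x)
    rw [GrpSchLib.HopfQuot.convMul_apply]
    show m (Coalgebra.comul (R := k) x) = _
    induction Coalgebra.comul (R := k) x using TensorProduct.induction_on with
    | zero => simp
    | tmul p q => simp [m]
    | add p q hp hq => simp only [map_add, hp, hq]
  have heq : (1 : A) ⊗ₜ[C] a = a ⊗ₜ[C] (1 : A) := by
    obtain ⟨z, hz⟩ := h
    have h0 : m (Coalgebra.comul (R := k) a - a ⊗ₜ[k] (1 : A)) = 0 := by
      rw [← hz]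
      clear hz
      induction z using TensorProduct.induction_on with
      | zero => simp
      | tmul p q => simp [m, hJ q.1 q.2]
      | add p q hp hq => simp only [map_add, hp, hq, add_zero]
    rw [map_sub, sub_eq_zero] at h0
    have h2 : m (Coalgebra.comul (R := k) a) = R a := AlgHom.congr_fun hm a
    rw [h2] at h0
    simpa [m, L, R] using h0
  obtain ⟨c, hc⟩ := DescLib.mem_range_of_one_tmul_mem (A := A) (Algebra.linearMap C A) a
    ⟨a ⊗ₜ[C] (1 : C), by rw [LinearMap.lTensor_tmul, Algebra.linearMap_apply, map_one]; exact heq.symm⟩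
  exact ⟨c, hc⟩

end Inv

section Main

open CoradFil ComodLib

variable {k : Type u} [Field k] {A T : Type v} [CommRing A] [CommRing T]

theorem wedge_map [Bialgebra k A] [Bialgebra k T] (f : A →ₐc[k] T) {a : A} {r : ℕ}
    (ha : a ∈ wedge (Submodule.span k {(1 : A)}) r) : f a ∈ wedge (Submodule.span k {(1 : T)}) r := by
  induction r generalizing a with
  | zero =>
    obtain ⟨c, rfl⟩ := Submodule.mem_span_singleton.1 ha
    exact Submodule.mem_span_singleton.2 ⟨c, by rw [map_smul, map_one]⟩
  | succ r ih =>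
    have ha' : Coalgebra.comul (R := k) a ∈
        LinearMap.range ((wedge (Submodule.span k {(1 : A)}) r).subtype.rTensor A) ⊔
          LinearMap.range ((Submodule.span k {(1 : A)}).subtype.lTensor A) := ha
    show Coalgebra.comul (R := k) (f a) ∈ LinearMap.range ((wedge (Submodule.span k {(1 : T)}) r).subtype.rTensor T) ⊔
      LinearMap.range ((Submodule.span k {(1 : T)}).subtype.lTensor T)
    rw [← CoalgHomClass.map_comp_comul_apply f a]
    obtain ⟨p, ⟨p', rfl⟩, q, ⟨q', rfl⟩, hpq⟩ := Submodule.mem_sup.1 ha'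
    rw [← hpq, map_add]
    refine Submodule.add_mem _ (Submodule.mem_sup_left ?_) (Submodule.mem_sup_right ?_)
    · clear hpq
      induction p' using TensorProduct.induction_on with
      | zero => simp
      | tmul x y => exact ⟨⟨f x.1, ih x.2⟩ ⊗ₜ[k] f y, rfl⟩
      | add x y hx hy => rw [map_add, map_add]; exact Submodule.add_mem _ hx hy
    · clear hpq
      induction q' using TensorProduct.induction_on with
      | zero => simp
      | tmul x y =>
        obtain ⟨c, hc⟩ := Submodule.mem_span_singleton.1 y.2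
        refine ⟨f x ⊗ₜ[k] ⟨c • (1 : T), Submodule.smul_mem _ c (Submodule.mem_span_singleton_self 1)⟩, ?_⟩
        show f x ⊗ₜ[k] (c • (1 : T)) = f x ⊗ₜ[k] f y.1
        rw [← hc, map_smul, map_one]
      | add x y hx hy => rw [map_add, map_add]; exact Submodule.add_mem _ hx hy

theorem exh_of_surjective [Bialgebra k A] [Bialgebra k T] (f : A →ₐc[k] T) (hf : Function.Surjective f)
    (h : Exh (Submodule.span k {(1 : A)})) : Exh (Submodule.span k {(1 : T)}) := fun t => by
  obtain ⟨a, rfl⟩ := hf t
  obtain ⟨r, hr⟩ := h a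
  exact ⟨r, wedge_map f hr⟩

theorem exists_primitive [Bialgebra k T] (h : Exh (Submodule.span k {(1 : T)})) {t : T}
    (ht : t ∉ Submodule.span k {(1 : T)}) :
    ∃ x : T, x ≠ 0 ∧ Coalgebra.comul (R := k) x = x ⊗ₜ[k] (1 : T) + (1 : T) ⊗ₜ[k] x := by
  obtain ⟨r, hr⟩ := h t
  obtain ⟨b, hb1, hb⟩ : ∃ b, b ∉ Submodule.span k {(1 : T)} ∧ b ∈ wedge (Submodule.span k {(1 : T)}) 1 := by
    induction r generalizing t with
    | zero => exact absurd hr ht
    | succ r ih =>
      by_cases hc : ∀ b ∈ wedge (Submodule.span k {(1 : T)}) r, b ∈ Submodule.span k {(1 : T)}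
      · refine ⟨t, ht, ?_⟩
        have hr' : Coalgebra.comul (R := k) t ∈
            LinearMap.range ((wedge (Submodule.span k {(1 : T)}) r).subtype.rTensor T) ⊔
              LinearMap.range ((Submodule.span k {(1 : T)}).subtype.lTensor T) := hr
        refine (sup_le_sup_right ?_ _ : _ ≤ LinearMap.range ((Submodule.span k {(1 : T)}).subtype.rTensor T) ⊔
          LinearMap.range ((Submodule.span k {(1 : T)}).subtype.lTensor T)) hr'
        rintro _ ⟨z, rfl⟩
        refine ⟨(Submodule.inclusion hc).rTensor T z, ?_⟩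
        rw [← LinearMap.comp_apply, ← LinearMap.rTensor_comp]
        rfl
      · push Not at hc
        obtain ⟨b, hbr, hb1⟩ := hc
        exact ih hb1 hbr
  let ε := Coalgebra.counit (R := k) (A := T)
  have hb' : Coalgebra.comul (R := k) b ∈
      LinearMap.range ((Submodule.span k {(1 : T)}).subtype.rTensor T) ⊔
        LinearMap.range ((Submodule.span k {(1 : T)}).subtype.lTensor T) := hb
  obtain ⟨p, ⟨p', rfl⟩, q, ⟨q', rfl⟩, hpq⟩ := Submodule.mem_sup.1 hb'
  obtain ⟨u, hu⟩ : ∃ u : T, (Submodule.span k {(1 : T)}).subtype.rTensor T p' = (1 : T) ⊗ₜ[k] u := by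
    clear hpq
    induction p' using TensorProduct.induction_on with
    | zero => exact ⟨0, by simp⟩
    | tmul x y =>
      obtain ⟨c, hc⟩ := Submodule.mem_span_singleton.1 x.2
      refine ⟨c • y, ?_⟩
      rw [LinearMap.rTensor_tmul, Submodule.subtype_apply, ← hc, TensorProduct.smul_tmul]
    | add x y hx hy =>
      obtain ⟨u, hu⟩ := hx
      obtain ⟨v, hv⟩ := hy
      exact ⟨u + v, by rw [map_add, hu, hv, TensorProduct.tmul_add]⟩
  obtain ⟨w, hw⟩ : ∃ w : T, (Submodule.span k {(1 : T)}).subtype.lTensor T q' = w ⊗ₜ[k] (1 : T) := by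
    clear hpq
    induction q' using TensorProduct.induction_on with
    | zero => exact ⟨0, by simp⟩
    | tmul x y =>
      obtain ⟨c, hc⟩ := Submodule.mem_span_singleton.1 y.2
      refine ⟨c • x, ?_⟩
      rw [LinearMap.lTensor_tmul, Submodule.subtype_apply, ← hc, TensorProduct.smul_tmul]
    | add x y hx hy =>
      obtain ⟨u, hu⟩ := hx
      obtain ⟨v, hv⟩ := hy
      exact ⟨u + v, by rw [map_add, hu, hv, TensorProduct.add_tmul]⟩
  rw [hu, hw] at hpq
  have h1 : u + ε w • (1 : T) = b := by
    have e := congrArg (fun z => TensorProduct.lid k T (ε.rTensor T z)) hpq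
    simp only [map_add, LinearMap.rTensor_tmul, TensorProduct.lid_tmul, ε, Bialgebra.counit_one, one_smul,
      Coalgebra.rTensor_counit_comul] at e
    exact e
  have h2 : ε u • (1 : T) + w = b := by
    have e := congrArg (fun z => TensorProduct.rid k T (ε.lTensor T z)) hpq
    simp only [map_add, LinearMap.lTensor_tmul, TensorProduct.rid_tmul, ε, Bialgebra.counit_one, one_smul,
      Coalgebra.lTensor_counit_comul] at e
    exact e
  have h3 : ε u + ε w = ε b := by
    have e := congrArg ε h1
    simpa [ε] using e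
  refine ⟨b - ε b • 1, fun h0 => hb1 (Submodule.mem_span_singleton.2 ⟨ε b, (sub_eq_zero.1 h0).symm⟩), ?_⟩
  rw [map_sub, map_smul, Bialgebra.comul_one, Algebra.TensorProduct.one_def, ← hpq,
    show u = b - ε w • 1 from eq_sub_of_add_eq h1, show w = b - ε u • 1 from eq_sub_of_add_eq' h2, ← h3]
  rw [show ε (b - ε u • 1) = ε w from congrArg ε (eq_sub_of_add_eq' h2).symm]
  simp only [TensorProduct.sub_tmul, TensorProduct.tmul_sub, TensorProduct.add_tmul, TensorProduct.smul_tmul',
    TensorProduct.tmul_smul, add_smul, TensorProduct.tmul_add]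
  abel

theorem pow_mem_wedge [Bialgebra k T] {x : T}
    (hx : Coalgebra.comul (R := k) x = x ⊗ₜ[k] (1 : T) + (1 : T) ⊗ₜ[k] x) (n : ℕ) :
    x ^ n ∈ wedge (Submodule.span k {(1 : T)}) n := by
  induction n using Nat.strong_induction_on with
  | _ n ih =>
    rcases n with _ | n
    · rw [pow_zero]; exact Submodule.mem_span_singleton_self 1
    · show Coalgebra.comul (R := k) (x ^ (n + 1)) ∈ LinearMap.range ((wedge (Submodule.span k {(1 : T)}) n).subtype.rTensor T) ⊔
        LinearMap.range ((Submodule.span k {(1 : T)}).subtype.lTensor T)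
      rw [Bialgebra.comul_pow, hx, (Commute.all _ _).add_pow, Finset.sum_range_succ]
      refine Submodule.add_mem _ (Submodule.sum_mem _ fun i hi => Submodule.mem_sup_left ?_) (Submodule.mem_sup_right ?_)
      · have hi' : i ≤ n := Nat.lt_succ_iff.1 (Finset.mem_range.1 hi)
        refine ⟨(⟨x ^ i, wedge_one_mono hi' (ih i (by omega))⟩ : wedge (Submodule.span k {(1 : T)}) n) ⊗ₜ[k]
          (x ^ (n + 1 - i) * ((n + 1).choose i : T)), ?_⟩
        simp only [LinearMap.rTensor_tmul, Submodule.subtype_apply, Algebra.TensorProduct.tmul_pow, one_pow,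
          Algebra.TensorProduct.tmul_mul_tmul, one_mul, mul_one, Algebra.TensorProduct.natCast_def']
      · refine ⟨(x ^ (n + 1)) ⊗ₜ[k] ⟨1, Submodule.mem_span_singleton_self 1⟩, ?_⟩
        simp only [LinearMap.lTensor_tmul, Submodule.subtype_apply, Algebra.TensorProduct.tmul_pow, one_pow,
          Algebra.TensorProduct.tmul_mul_tmul, one_mul, mul_one, Nat.sub_self, pow_zero, Nat.choose_self,
          Nat.cast_one]

theorem adjoin_le_wedge [Bialgebra k T] {x : T}
    (hx : Coalgebra.comul (R := k) x = x ⊗ₜ[k] (1 : T) + (1 : T) ⊗ₜ[k] x) {t : T}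
    (ht : t ∈ Algebra.adjoin k ({x} : Set T)) : ∃ r, t ∈ wedge (Submodule.span k {(1 : T)}) r := by
  rw [Algebra.adjoin_singleton_eq_range_aeval] at ht
  obtain ⟨P, rfl⟩ := ht
  refine ⟨P.natDegree, ?_⟩
  change Polynomial.aeval x P ∈ _
  rw [Polynomial.aeval_eq_sum_range]
  exact Submodule.sum_mem _ fun i hi =>
    Submodule.smul_mem _ _ (wedge_one_mono (Nat.lt_succ_iff.1 (Finset.mem_range.1 hi)) (pow_mem_wedge hx i))

theorem exists_coact_mem_of_mem [Bialgebra k T] {V : Type v} [AddCommGroup V] [Module k V] [HopfRep.Comod k T V]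
    {S : Submodule k T} (hm : Monotone (wedge S)) {v₀ : V} (hv₀ : v₀ ≠ 0) {r₀ : ℕ}
    (hr₀ : HopfRep.Comod.coact (k := k) (A := T) v₀ ∈ LinearMap.range ((wedge S r₀).subtype.lTensor V)) :
    ∃ v : V, v ≠ 0 ∧ HopfRep.Comod.coact (k := k) (A := T) v ∈ LinearMap.range (S.subtype.lTensor V) := by
  induction r₀ generalizing v₀ with
  | zero => exact ⟨v₀, hv₀, hr₀⟩
  | succ r ih =>
    by_cases hcase : ∃ ψ : T →ₗ[k] k, (∀ u ∈ S, ψ u = 0) ∧ actF ψ v₀ ≠ 0
    · obtain ⟨ψ, hψ, hne⟩ := hcase
      refine ih hne ((mem_range_lTensor_iff _ _).2 fun φ hφ => ?_)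
      show actF φ (actF ψ v₀) = 0
      rw [show actF φ (actF ψ v₀) = actF (WithConv.toConv φ * WithConv.toConv ψ).ofConv v₀ from
        (actF_convMul (WithConv.toConv φ) (WithConv.toConv ψ) v₀).symm, actF_apply]
      refine (mem_range_lTensor_iff _ _).1 hr₀ _ fun u hu => ?_
      rw [LinearMap.convMul_apply]
      have hu' : Coalgebra.comul (R := k) u ∈
          LinearMap.range ((wedge S r).subtype.rTensor T) ⊔ LinearMap.range (S.subtype.lTensor T) := hu
      obtain ⟨x, ⟨x', rfl⟩, y, ⟨y', rfl⟩, hxy⟩ := Submodule.mem_sup.1 hu'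
      rw [← hxy, map_add, map_add]
      have e1 : LinearMap.mul' k k (TensorProduct.map φ ψ ((wedge S r).subtype.rTensor T x')) = 0 := by
        clear hxy
        induction x' using TensorProduct.induction_on with
        | zero => simp
        | add p q hp hq => simp only [map_add, hp, hq, add_zero]
        | tmul p q => simp [hφ p p.2]
      have e2 : LinearMap.mul' k k (TensorProduct.map φ ψ (S.subtype.lTensor T y')) = 0 := by
        clear hxy
        induction y' using TensorProduct.induction_on with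
        | zero => simp
        | add p q hp hq => simp only [map_add, hp, hq, add_zero]
        | tmul p q => simp [hψ q q.2]
      simp only [WithConv.ofConv_toConv]
      rw [e1, e2, add_zero]
    · push Not at hcase
      exact ⟨v₀, hv₀, (mem_range_lTensor_iff S _).2 fun ψ hψ => by rw [← actF_apply]; exact hcase ψ hψ⟩

theorem exh_of_primitive_quotient [HopfAlgebra k T] [Algebra.FiniteType k T] {x : T}
    (hx : Coalgebra.comul (R := k) x = x ⊗ₜ[k] (1 : T) + (1 : T) ⊗ₜ[k] x)
    [(Ideal.span ({x} : Set T)).IsHopfIdeal k]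
    (h : Exh (Submodule.span k {(1 : T ⧸ Ideal.span ({x} : Set T))})) : Exh (Submodule.span k {(1 : T)}) := by
  have hεx : Coalgebra.counit (R := k) x = 0 := GrpSchLib.counit_primitive hx
  let P := Algebra.adjoin k ({x} : Set T)
  haveI : Algebra.FiniteType k P := ⟨(Subalgebra.fg_top P).2 ⟨{x}, by simp [P]⟩⟩
  have hxP : x ∈ P := Algebra.subset_adjoin rfl
  have h1 : ∀ b : P, Coalgebra.comul (R := k) (P.val b) ∈ (Algebra.TensorProduct.map P.val P.val).range := by
    intro b
    have : P ≤ (Algebra.TensorProduct.map P.val P.val).range.comap (Bialgebra.comulAlgHom k T) :=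
      Algebra.adjoin_le (Set.singleton_subset_iff.2 ⟨(⟨x, hxP⟩ : P) ⊗ₜ[k] 1 + 1 ⊗ₜ[k] (⟨x, hxP⟩ : P), by
        show Algebra.TensorProduct.map P.val P.val _ = Coalgebra.comul (R := k) x
        rw [hx, map_add]; rfl⟩)
    exact this b.2
  have h2 : ∀ b : P, HopfAlgebraStruct.antipode (R := k) (P.val b) ∈ P.val.range := by
    intro b
    have hP : P ≤ P.comap (HopfAlgebra.antipodeAlgHom k T) := Algebra.adjoin_le (Set.singleton_subset_iff.2 (by
      show HopfAlgebra.antipode k x ∈ P
      rw [GrpSchLib.antipode_primitive hx]; exact neg_mem hxP))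
    exact ⟨⟨_, hP b.2⟩, rfl⟩
  letI : HopfAlgebra k P := GrpSchLib.HopfTransfer.hopf P.val Subtype.val_injective h1 h2
  let ψ : P →ₐc[k] T := BialgHom.ofAlgHom P.val rfl
    (AlgHom.ext fun b => GrpSchLib.HopfTransfer.map_comulRes P.val Subtype.val_injective h1 b)
  have hψ : ∀ b : P, ψ b = b.1 := fun b => rfl
  have hJ : Ideal.map (ψ : P →+* T) (RingHom.ker (Bialgebra.counitAlgHom k P)) = Ideal.span ({x} : Set T) := by
    apply le_antisymm
    · rw [Ideal.map_le_iff_le_comap]
      intro b hb
      have hb0 : Coalgebra.counit (R := k) b.1 = 0 := hb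
      have hmem : b.1 ∈ Algebra.adjoin k ({x} : Set T) := b.2
      rw [Algebra.adjoin_singleton_eq_range_aeval] at hmem
      obtain ⟨Q, hQ⟩ := hmem
      have hQ' : Polynomial.aeval x Q = b.1 := hQ
      have hc : Q.coeff 0 = 0 := by
        rw [← hQ', show Coalgebra.counit (R := k) (Polynomial.aeval x Q) =
          Bialgebra.counitAlgHom k T (Polynomial.aeval x Q) from rfl, ← Polynomial.aeval_algHom_apply] at hb0
        rw [show (Bialgebra.counitAlgHom k T x : k) = 0 from hεx] at hb0
        rwa [Polynomial.coeff_zero_eq_eval_zero, ← Polynomial.coe_aeval_eq_eval]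
      obtain ⟨Q', hQ''⟩ := Polynomial.X_dvd_iff.2 hc
      show b.1 ∈ Ideal.span ({x} : Set T)
      rw [← hQ', hQ'', map_mul, Polynomial.aeval_X]
      exact Ideal.mul_mem_right _ _ (Ideal.mem_span_singleton_self x)
    · rw [Ideal.span_le, Set.singleton_subset_iff]
      exact Ideal.mem_map_of_mem (ψ : P →+* T) (show (⟨x, hxP⟩ : P) ∈ RingHom.ker (Bialgebra.counitAlgHom k P) from hεx)
  refine exh_of_isUnipotent ?_
  intro V _ _ _ hfin hnt
  let q : T →ₐc[k] T ⧸ Ideal.span ({x} : Set T) := Bialgebra.Quotient.mkBialgHom _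
  obtain ⟨v₀, hv₀⟩ := exists_ne (0 : V)
  obtain ⟨v, hv, hc⟩ : ∃ v : V, v ≠ 0 ∧
      (q : T →ₗ[k] T ⧸ Ideal.span ({x} : Set T)).lTensor V (HopfRep.Comod.coact (k := k) (A := T) v) =
        v ⊗ₜ[k] 1 := by
    letI c' : HopfRep.Comod k (T ⧸ Ideal.span ({x} : Set T)) V :=
      pushComod (q : T →ₗc[k] T ⧸ Ideal.span ({x} : Set T)) (inferInstance : HopfRep.Comod k T V)
    obtain ⟨w, hw, hfix⟩ := (Submodule.ne_bot_iff _).1 (isUnipotent_of_exh h V hfin hnt)
    exact ⟨w, hfix, hw⟩
  let z := HopfRep.Comod.coact (k := k) (A := T) v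
  obtain ⟨w, hw⟩ : ∃ w : V ⊗[k] ((Ideal.span ({x} : Set T)).restrictScalars k),
      ((Ideal.span ({x} : Set T)).restrictScalars k).subtype.lTensor V w = z - v ⊗ₜ[k] 1 := by
    refine LinearMap.mem_range.1 ((lTensor_exact V (f := ((Ideal.span ({x} : Set T)).restrictScalars k).subtype)
      (g := (q : T →ₗ[k] T ⧸ Ideal.span ({x} : Set T))) ?_ ?_ _).1 ?_)
    · intro t
      constructor
      · intro ht
        exact ⟨⟨t, (Ideal.Quotient.eq_zero_iff_mem.1 (show Ideal.Quotient.mk _ t = 0 from ht) : t ∈ Ideal.span ({x} : Set T))⟩, rfl⟩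
      · rintro ⟨t, rfl⟩
        show Ideal.Quotient.mk _ t.1 = 0
        exact Ideal.Quotient.eq_zero_iff_mem.2 t.2
    · exact fun y => Ideal.Quotient.mk_surjective (I := Ideal.span ({x} : Set T)) y
    · rw [map_sub, LinearMap.lTensor_tmul, hc, sub_eq_zero]
      exact congrArg (fun t => v ⊗ₜ[k] t) (show (1 : T ⧸ Ideal.span ({x} : Set T)) = q 1 from (map_one q).symm)
  have hz : ∀ f : V →ₗ[k] k, TensorProduct.lid k T (f.rTensor T z) ∈ P := by
    intro f
    have hco := LinearMap.congr_fun (HopfRep.Comod.coassoc (k := k) (A := T) (V := V)) v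
    simp only [LinearMap.comp_apply, LinearEquiv.coe_coe] at hco
    let G : V ⊗[k] (T ⊗[k] T) →ₗ[k] T ⊗[k] T := (TensorProduct.lid k (T ⊗[k] T)).toLinearMap ∘ₗ f.rTensor (T ⊗[k] T)
    have hl : ∀ y : V ⊗[k] T, G (CoalgebraStruct.comul.lTensor V y) =
        Coalgebra.comul (R := k) (TensorProduct.lid k T (f.rTensor T y)) := by
      intro y
      induction y using TensorProduct.induction_on with
      | zero => simp
      | tmul a b => simp [G]
      | add a b ha hb => simp only [map_add, ha, hb]
    have hr : ∀ y : V ⊗[k] T, G (TensorProduct.assoc k V T T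
        ((HopfRep.Comod.coact (k := k) (A := T) (V := V)).rTensor T y)) =
        ((TensorProduct.lid k T).toLinearMap ∘ₗ f.rTensor T ∘ₗ HopfRep.Comod.coact (k := k) (A := T)).rTensor T y := by
      intro y
      induction y using TensorProduct.induction_on with
      | zero => simp
      | tmul a b =>
        simp only [LinearMap.rTensor_tmul, LinearMap.comp_apply, LinearEquiv.coe_coe]
        induction HopfRep.Comod.coact (k := k) (A := T) a using TensorProduct.induction_on with
        | zero => simp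
        | tmul p p' => simp [G, TensorProduct.smul_tmul']
        | add p p' hp hp' => simp only [TensorProduct.add_tmul, map_add, hp, hp']
      | add a b ha hb => simp only [map_add, ha, hb]
    have key := congrArg G hco
    rw [hl, hr] at key
    obtain ⟨b, hb⟩ := mem_range_of_comul_sub_mem ψ Subtype.val_injective (TensorProduct.lid k T (f.rTensor T z)) (by
      rw [hJ]
      refine ⟨((TensorProduct.lid k T).toLinearMap ∘ₗ f.rTensor T ∘ₗ
        HopfRep.Comod.coact (k := k) (A := T)).rTensor _ w, ?_⟩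
      rw [← LinearMap.comp_apply, LinearMap.lTensor_comp_rTensor, ← LinearMap.rTensor_comp_lTensor,
        LinearMap.comp_apply, hw, map_sub, LinearMap.rTensor_tmul, key]
      rfl)
    rw [← hb, hψ]
    exact b.2
  obtain ⟨r, hr⟩ : ∃ r, z ∈ LinearMap.range ((wedge (Submodule.span k {(1 : T)}) r).subtype.lTensor V) := by
    classical
    let b := Module.finBasis k V
    choose r hr using fun i => adjoin_le_wedge hx (hz (b.coord i))
    refine ⟨Finset.univ.sup r, ?_⟩
    have hsum : z = ∑ i, b i ⊗ₜ[k] TensorProduct.lid k T ((b.coord i).rTensor T z) := by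
      induction z using TensorProduct.induction_on with
      | zero => simp
      | tmul a t =>
        conv_lhs => rw [← b.sum_repr a, TensorProduct.sum_tmul]
        simp [TensorProduct.smul_tmul']
      | add a t ha ht => simp only [map_add, TensorProduct.tmul_add, Finset.sum_add_distrib, ← ha, ← ht]
    rw [hsum]
    exact Submodule.sum_mem _ fun i _ => ⟨b i ⊗ₜ[k] ⟨_, wedge_one_mono (Finset.le_sup (Finset.mem_univ i)) (hr i)⟩, rfl⟩
  obtain ⟨v', hv', hc'⟩ := exists_coact_mem_of_mem wedge_one_mono hv hr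
  refine (Submodule.ne_bot_iff _).2 ⟨v', ?_, hv'⟩
  obtain ⟨y, hy⟩ := hc'
  show HopfRep.Comod.coact (k := k) (A := T) v' = v' ⊗ₜ[k] 1
  obtain ⟨u, hu⟩ : ∃ u : V, (Submodule.span k {(1 : T)}).subtype.lTensor V y = u ⊗ₜ[k] (1 : T) := by
    clear hy
    induction y using TensorProduct.induction_on with
    | zero => exact ⟨0, by simp⟩
    | tmul a t =>
      obtain ⟨c, hc⟩ := Submodule.mem_span_singleton.1 t.2
      refine ⟨c • a, ?_⟩
      rw [LinearMap.lTensor_tmul, Submodule.subtype_apply, ← hc, TensorProduct.smul_tmul]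
    | add a t ha ht =>
      obtain ⟨u, hu⟩ := ha
      obtain ⟨u', hu'⟩ := ht
      exact ⟨u + u', by rw [map_add, hu, hu', TensorProduct.add_tmul]⟩
  rw [← hy, hu]
  have e := LinearMap.congr_fun (HopfRep.Comod.counit_comp (k := k) (A := T) (V := V)) v'
  rw [LinearMap.comp_apply, ← hy, hu, LinearMap.lTensor_tmul, Bialgebra.counit_one] at e
  have e' := congrArg (TensorProduct.rid k V) e
  simp at e'
  rw [e']

theorem exh_of_forall_primitive [HopfAlgebra k A] [Algebra.FiniteType k A]
    (hP : ∀ (I : Ideal A) [I.IsHopfIdeal k], I ≠ RingHom.ker (Bialgebra.counitAlgHom k A) →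
        ∃ x : A ⧸ I, x ≠ 0 ∧
          CoalgebraStruct.comul (R := k) x = x ⊗ₜ[k] (1 : A ⧸ I) + (1 : A ⧸ I) ⊗ₜ[k] x) :
    Exh (Submodule.span k {(1 : A)}) := by
  haveI : IsNoetherianRing A := Algebra.FiniteType.isNoetherianRing k A
  suffices H : ∀ (I : Ideal A) (T : Type v) [CommRing T] [HopfAlgebra k T] (f : A →ₐc[k] T),
      Function.Surjective f → RingHom.ker (f : A →ₐ[k] T) = I → Exh (Submodule.span k {(1 : T)}) from
    H _ A (BialgHom.id k A) Function.surjective_id rfl
  intro I
  induction I using (wellFounded_gt (α := Ideal A)).induction with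
  | _ I ih =>
    intro T _ _ f hf hI
    haveI : Algebra.FiniteType k T := Algebra.FiniteType.of_surjective (f : A →ₐ[k] T) hf
    haveI hIH : I.IsHopfIdeal k := hI ▸ GrpSchLib.isHopfIdeal_ker f fun a ha => by
      rw [← GrpSchLib.HopfGalois.antipode_bialgHom f a, ha, map_zero]
    by_cases hk : I = RingHom.ker (Bialgebra.counitAlgHom k A)
    · intro t
      obtain ⟨a, rfl⟩ := hf t
      refine ⟨0, Submodule.mem_span_singleton.2 ⟨Coalgebra.counit (R := k) a, ?_⟩⟩
      have h0 : f (a - Coalgebra.counit (R := k) a • 1) = 0 := by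
        have : a - Coalgebra.counit (R := k) a • 1 ∈ RingHom.ker (f : A →ₐ[k] T) := by
          rw [hI, hk, RingHom.mem_ker]
          simp
        exact this
      rw [map_sub, map_smul, map_one, sub_eq_zero] at h0
      exact h0.symm
    · obtain ⟨xb, hxb0, hxb⟩ := hP I hk
      obtain ⟨a, rfl⟩ := Ideal.Quotient.mk_surjective xb
      let ι : A ⧸ I →ₐ[k] T := Ideal.Quotient.liftₐ I (f : A →ₐ[k] T) fun b hb => by rw [← hI] at hb; exact hb
      have hx : Coalgebra.comul (R := k) (f a) = f a ⊗ₜ[k] (1 : T) + (1 : T) ⊗ₜ[k] f a := by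
        have e1 : Coalgebra.comul (R := k) (f a) =
            Algebra.TensorProduct.map ι ι (CoalgebraStruct.comul (R := k) (Ideal.Quotient.mk I a)) := by
          rw [← CoalgHomClass.map_comp_comul_apply f a,
            show CoalgebraStruct.comul (R := k) (Ideal.Quotient.mk I a) =
              TensorProduct.map (Bialgebra.Quotient.mkBialgHom (R := k) I : A →ₗ[k] A ⧸ I)
                (Bialgebra.Quotient.mkBialgHom (R := k) I : A →ₗ[k] A ⧸ I) (Coalgebra.comul (R := k) a) from
              (CoalgHomClass.map_comp_comul_apply (Bialgebra.Quotient.mkBialgHom (R := k) I) a).symm]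
          induction Coalgebra.comul (R := k) a using TensorProduct.induction_on with
          | zero => simp
          | tmul p p' => rfl
          | add p p' hp hp' => simp only [map_add, hp, hp']
        rw [e1, hxb, map_add, Algebra.TensorProduct.map_tmul, Algebra.TensorProduct.map_tmul, map_one]
        rfl
      haveI := GrpSchLib.isHopfIdeal_span_primitive hx
      refine exh_of_primitive_quotient hx ?_
      let g : A →ₐc[k] T ⧸ Ideal.span ({f a} : Set T) := (Bialgebra.Quotient.mkBialgHom _).comp f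
      refine ih (RingHom.ker (g : A →ₐ[k] T ⧸ Ideal.span ({f a} : Set T))) ?_ _ g
        (show Function.Surjective (fun b => Ideal.Quotient.mk (Ideal.span ({f a} : Set T)) (f b)) from
          Ideal.Quotient.mk_surjective.comp hf) (by rfl)
      refine lt_of_le_of_ne (fun b hb => ?_) fun e => hxb0 ?_
      · rw [← hI] at hb
        show Ideal.Quotient.mk _ (f b) = 0
        rw [show f b = 0 from hb, map_zero]
      · rw [Ideal.Quotient.eq_zero_iff_mem, e]
        exact Ideal.Quotient.eq_zero_iff_mem.2 (Ideal.mem_span_singleton_self _)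

end Main

end Groth.Agent.UniPrim
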